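import Cfsg.Prelude.Def_Solvable
import Mathlib.GroupTheory.SemidirectProduct
import Mathlib.LinearAlgebra.Matrix.ToLinearEquiv
import Mathlib.Data.ZMod.Basic
import Mathlib.Algebra.Field.ZMod

/-!
# Frobenius complements from fixed-point-free actions
-/

set_option linter.all false

namespace Cfsg.Agent.FrobExamples

open scoped Pointwise
open SemidirectProduct

universe u v

/-- A group acting fixed-point-freely is a Frobenius complement in the semidirect product. -/
theorem isFrobeniusComplement_inr {N : Type u} {H : Type v} [Group N] [Group H] [Nontrivial N] [Nontrivial H]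
    (φ : H →* MulAut N) (hφ : ∀ h : H, h ≠ 1 → ∀ n : N, φ h n = n → n = 1) :
    Cfsg.IsFrobeniusComplement (SemidirectProduct.inr : H →* N ⋊[φ] H).range := by
  have hmem : ∀ g : N ⋊[φ] H, g ∈ (SemidirectProduct.inr : H →* N ⋊[φ] H).range ↔ g.left = 1 := by
    intro g
    constructor
    · rintro ⟨h, rfl⟩; rfl
    · intro h; exact ⟨g.right, by ext <;> simp [h]⟩
  refine ⟨?_, ?_, fun g hg => ?_⟩
  · obtain ⟨h, hh⟩ := exists_ne (1 : H)
    intro hb
    have : (SemidirectProduct.inr h : N ⋊[φ] H) ∈ (SemidirectProduct.inr : H →* N ⋊[φ] H).range := ⟨h, rfl⟩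
    rw [hb, Subgroup.mem_bot] at this
    exact hh (SemidirectProduct.inr_injective (this.trans (map_one _).symm))
  · obtain ⟨n, hn⟩ := exists_ne (1 : N)
    intro ht
    exact hn ((hmem (SemidirectProduct.inl n)).mp (ht ▸ Subgroup.mem_top _))
  · rw [eq_bot_iff]
    rintro y ⟨hy1, z, hz, hy2⟩
    replace hy1 := (hmem y).mp hy1
    replace hz := (hmem z).mp hz
    change g * z * g⁻¹ = y at hy2
    rw [hmem] at hg
    subst hy2
    simp only [SemidirectProduct.mul_left, SemidirectProduct.mul_right, SemidirectProduct.inv_left, hz,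
      map_one, mul_one] at hy1
    set k := g.right * z.right * g.right⁻¹ with hk
    have hfix : φ k g.left = g.left := by
      rw [← MulAut.mul_apply, ← map_mul, ← hk, map_inv, mul_inv_eq_one] at hy1
      exact hy1.symm
    rw [Subgroup.mem_bot]
    by_contra hne
    have hzr : z.right ≠ 1 := fun h => hne (by
      have : z = 1 := SemidirectProduct.ext hz (by rw [h]; rfl)
      rw [this]; simp)
    exact hg (hφ k (fun h => hzr (by simpa [hk] using conj_eq_one_iff.mp h)) _ hfix)

/-- A fixed-point-free action on a small finite group makes a group a Frobenius complement. -/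
theorem exists_of_action {N : Type} [Group N] [Finite N] [Nontrivial N] {G : Type v} [Group G] [Nontrivial G]
    (φ : G →* MulAut N) (hφ : ∀ g : G, g ≠ 1 → ∀ n : N, φ g n = n → n = 1) :
    ∃ (L : Type) (_ : Group L) (_ : Finite L) (H : Subgroup L),
      Cfsg.IsFrobeniusComplement H ∧ Nonempty (G ≃* H) := by
  have hinj : Function.Injective φ := by
    rw [injective_iff_map_eq_one]
    intro g hg
    by_contra hne
    obtain ⟨n, hn⟩ := exists_ne (1 : N)
    exact hn (hφ g hne n (by rw [hg]; rfl))
  haveI : Finite (MulAut N) := Finite.of_injective (fun e => (e : N → N)) DFunLike.coe_injective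
  let e : G ≃* φ.range := MonoidHom.ofInjective hinj
  haveI : Nontrivial φ.range := e.toEquiv.nontrivial_congr.mp inferInstance
  refine ⟨N ⋊[φ.range.subtype] φ.range, inferInstance,
    Finite.of_equiv _ SemidirectProduct.equivProd.symm, _, isFrobeniusComplement_inr φ.range.subtype ?_,
    ⟨e.trans (MonoidHom.ofInjective SemidirectProduct.inr_injective)⟩⟩
  intro h hh n hn
  obtain ⟨g, rfl⟩ := e.surjective h
  refine hφ g (fun hg => hh (by rw [hg, map_one])) n ?_
  exact hn

/-- Fixed-point-free matrix groups over a prime field are Frobenius complements. -/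
theorem exists_of_matrix {G : Type v} [Group G] [Nontrivial G] {p k : ℕ} [Fact p.Prime] [Nonempty (Fin k)]
    (ρ : G →* Matrix (Fin k) (Fin k) (ZMod p))
    (hρ : ∀ g : G, g ≠ 1 → (ρ g - 1).det ≠ 0) :
    ∃ (L : Type) (_ : Group L) (_ : Finite L) (H : Subgroup L),
      Cfsg.IsFrobeniusComplement H ∧ Nonempty (G ≃* H) := by
  let V := Multiplicative (Fin k → ZMod p)
  haveI : NeZero p := ⟨(Fact.out : p.Prime).ne_zero⟩
  let φ : G →* MulAut V :=
    { toFun := fun g =>
        { toFun := fun v => Multiplicative.ofAdd ((ρ g).mulVec v.toAdd)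
          invFun := fun v => Multiplicative.ofAdd ((ρ g⁻¹).mulVec v.toAdd)
          left_inv := fun v => by
            simp [Matrix.mulVec_mulVec, ← map_mul]
          right_inv := fun v => by
            simp [Matrix.mulVec_mulVec, ← map_mul]
          map_mul' := fun a b => congrArg Multiplicative.ofAdd (Matrix.mulVec_add (ρ g) a.toAdd b.toAdd) }
      map_one' := MulEquiv.ext fun v => by
        show Multiplicative.ofAdd ((ρ 1).mulVec v.toAdd) = v
        rw [map_one, Matrix.one_mulVec]
        rfl
      map_mul' := fun a b => by ext v; simp [Matrix.mulVec_mulVec] }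
  refine exists_of_action (N := V) φ fun g hg v hv => ?_
  have h0 : (ρ g - 1).mulVec v.toAdd = 0 := by
    rw [Matrix.sub_mulVec, Matrix.one_mulVec, sub_eq_zero]
    exact congrArg Multiplicative.toAdd hv
  exact Multiplicative.toAdd.injective (Matrix.eq_zero_of_mulVec_eq_zero (hρ g hg) h0)

end Cfsg.Agent.FrobExamples
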